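import Mathlib.RingTheory.Smooth.Locus
import Mathlib.RingTheory.Finiteness.Nakayama
import Mathlib.RingTheory.MvPowerSeries.Inverse
import Mathlib.RingTheory.Ideal.Cotangent
import Mathlib.RingTheory.Polynomial.Basic
import Mathlib.RingTheory.Localization.Away.Basic

/-!
# Polynomial coordinates on a retraction which is smooth along its section
-/

namespace Groth.Agent.BBAffine

open MvPolynomial

universe u

variable {A B : Type u} [CommRing A] [CommRing B] [Algebra A B] {σ : Type} [Fintype σ]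

theorem sub_C_mem (f : MvPolynomial σ A) :
    f - C (constantCoeff f) ∈ Ideal.span (Set.range (X : σ → MvPolynomial σ A)) := by
  induction f using MvPolynomial.induction_on with
  | C a => simp
  | add p q hp hq =>
    convert add_mem hp hq using 1
    simp [map_add]; ring
  | mul_X p i _ =>
    simp only [map_mul, constantCoeff_X, mul_zero, map_zero, sub_zero]
    exact Ideal.mul_mem_left _ _ (Ideal.subset_span ⟨i, rfl⟩)

theorem eq_zero_of_mul_eq_zero {r f : MvPolynomial σ A} (hr : constantCoeff r = 1) (h : r * f = 0) :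
    f = 0 := by
  have hu : IsUnit (r : MvPowerSeries σ A) := by
    rw [MvPowerSeries.isUnit_iff_constantCoeff]
    have : MvPowerSeries.constantCoeff (r : MvPowerSeries σ A) = 1 := by
      rw [← MvPowerSeries.coeff_zero_eq_constantCoeff_apply, MvPolynomial.coeff_coe]
      exact hr
    rw [this]
    exact isUnit_one
  have h' : (r : MvPowerSeries σ A) * (f : MvPowerSeries σ A) = 0 := by
    rw [← MvPolynomial.coe_mul, h, MvPolynomial.coe_zero]
  rw [hu.mul_right_eq_zero] at h'
  exact MvPolynomial.coe_injective σ A (h'.trans MvPolynomial.coe_zero.symm)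

theorem injective_of_smooth [IsNoetherianRing A] (φ : MvPolynomial σ A →ₐ[A] B)
    (hφ : Function.Surjective φ) (I : Ideal B) (hX : ∀ i, φ (X i) ∈ I)
    (hA : ∀ a : A, algebraMap A B a ∈ I → a = 0)
    (hli : ∀ a : σ → A, ∑ i, algebraMap A B (a i) * φ (X i) ∈ I ^ 2 → a = 0)
    (h : B) (hh : h - 1 ∈ I) [Algebra.FormallySmooth A (Localization.Away h)] :
    Function.Injective φ := by
  classical
  set Xs := Ideal.span (Set.range (X : σ → MvPolynomial σ A)) with hXs
  set J := RingHom.ker φ.toRingHom with hJ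
  have hXI : ∀ g ∈ Xs, φ g ∈ I := fun g hg => by
    have : Xs ≤ I.comap φ.toRingHom := Ideal.span_le.2 (by rintro _ ⟨i, rfl⟩; exact hX i)
    exact this hg
  have hconst : ∀ g : MvPolynomial σ A, φ g ∈ I → g ∈ Xs := fun g hg => by
    have h1 := sub_C_mem g
    have h2 : algebraMap A B (constantCoeff g) ∈ I := by
      have := sub_mem hg (hXI _ h1)
      rwa [map_sub, sub_sub_cancel, ← MvPolynomial.algebraMap_eq, φ.commutes] at this
    rwa [hA _ h2, map_zero, sub_zero] at h1
  have hJX : J ≤ Xs := fun f hf => hconst f (by rw [show φ f = 0 from hf]; exact zero_mem _)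
  have hJ2 : ∀ f ∈ J, f ∈ Xs ^ 2 := by
    intro f hf
    obtain ⟨g, hg⟩ := Ideal.mem_span_range_iff_exists_fun.1 (hJX hf)
    have hlin : f - ∑ i, C (constantCoeff (g i)) * X i ∈ Xs ^ 2 := by
      rw [← hg, ← Finset.sum_sub_distrib]
      refine Ideal.sum_mem _ fun i _ => ?_
      rw [← sub_mul, pow_two]
      exact Ideal.mul_mem_mul (sub_C_mem _) (Ideal.subset_span ⟨i, rfl⟩)
    have h0 : (fun i => constantCoeff (g i)) = 0 := hli _ (by
      have hmap : (Xs ^ 2).map φ.toRingHom ≤ I ^ 2 := by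
        rw [Ideal.map_pow]
        exact Ideal.pow_right_mono (Ideal.map_le_iff_le_comap.2 hXI) 2
      have := hmap (Ideal.mem_map_of_mem _ hlin)
      change φ (f - ∑ i, C (constantCoeff (g i)) * X i) ∈ I ^ 2 at this
      rw [map_sub, show φ f = 0 from hf, zero_sub, neg_mem_iff, map_sum] at this
      simpa only [map_mul, ← MvPolynomial.algebraMap_eq, AlgHom.commutes] using this)
    simpa [congrFun h0] using hlin
  -- the smooth neighbourhood
  obtain ⟨c, hc⟩ := hφ h
  have hc1 : c - 1 ∈ Xs := hconst _ (by rwa [map_sub, map_one, hc])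
  let Q := Localization.Away c
  let Bh := Localization.Away h
  let ι : MvPolynomial σ A →ₐ[A] Q := IsScalarTower.toAlgHom A _ _
  let φc : Q →ₐ[A] Bh := IsLocalization.liftAlgHom (M := Submonoid.powers c)
    (f := (IsScalarTower.toAlgHom A B Bh).comp φ) (by
      rintro ⟨_, k, rfl⟩
      show IsUnit (algebraMap B Bh (φ (c ^ k)))
      rw [map_pow, hc, map_pow]
      exact (IsLocalization.Away.algebraMap_isUnit h).pow k)
  have hφc : ∀ p, φc (ι p) = algebraMap B Bh (φ p) := fun p => IsLocalization.lift_eq _ p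
  have hsurj : Function.Surjective φc := by
    intro z
    obtain ⟨⟨b, ⟨_, k, rfl⟩⟩, hz⟩ := IsLocalization.surj (Submonoid.powers h) z
    obtain ⟨p, rfl⟩ := hφ b
    refine ⟨IsLocalization.mk' Q p (⟨c ^ k, k, rfl⟩ : Submonoid.powers c), ?_⟩
    refine ((IsLocalization.Away.algebraMap_isUnit h).pow k).mul_left_injective ?_
    show φc _ * algebraMap B Bh h ^ k = z * algebraMap B Bh h ^ k
    have h1 : φc (IsLocalization.mk' Q p (⟨c ^ k, k, rfl⟩ : Submonoid.powers c)) * φc (ι (c ^ k)) =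
        φc (ι p) := by
      rw [← map_mul]
      exact congrArg φc (IsLocalization.mk'_spec Q p (⟨c ^ k, k, rfl⟩ : Submonoid.powers c))
    rw [hφc, hφc, map_pow φ, hc, map_pow] at h1
    rw [h1, ← map_pow]
    exact hz.symm
  set K := RingHom.ker φc.toRingHom with hK
  have hKJ : K = J.map ι.toRingHom := by
    refine le_antisymm (fun q hq => ?_) (Ideal.map_le_iff_le_comap.2 fun p hp => ?_)
    · obtain ⟨⟨p, ⟨_, k, rfl⟩⟩, hq'⟩ := IsLocalization.surj (Submonoid.powers c) q
      have hp0 : algebraMap B Bh (φ p) = 0 := by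
        rw [← hφc, show ι p = q * ι (c ^ k) from hq'.symm, map_mul, show φc q = 0 from hq, zero_mul]
      obtain ⟨⟨_, l, rfl⟩, hl⟩ := (IsLocalization.map_eq_zero_iff (Submonoid.powers h) Bh _).1 hp0
      have hmem : c ^ l * p ∈ J := by
        show φ (c ^ l * p) = 0
        rw [map_mul, map_pow, hc]; exact hl
      have h2 : q * ι (c ^ k) * ι (c ^ l) ∈ J.map ι.toRingHom := by
        rw [show q * ι (c ^ k) = ι p from hq', ← map_mul, mul_comm p]
        exact Ideal.mem_map_of_mem _ hmem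
      have hu : ∀ m, IsUnit (ι (c ^ m)) := fun m => by
        rw [map_pow]; exact (IsLocalization.Away.algebraMap_isUnit c).pow m
      rwa [Ideal.mul_unit_mem_iff_mem _ (hu l), Ideal.mul_unit_mem_iff_mem _ (hu k)] at h2
    · show φc (ι p) = 0
      rw [hφc, show φ p = 0 from hp, map_zero]
  let mk := Ideal.Quotient.mkₐ A (K ^ 2)
  let g : (Q ⧸ K ^ 2) →ₐ[A] Bh := Ideal.Quotient.liftₐ (K ^ 2) φc
    fun q hq => (Ideal.pow_le_self two_ne_zero : K ^ 2 ≤ K) hq
  have hg : Function.Surjective g := fun z => by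
    obtain ⟨q, rfl⟩ := hsurj z
    exact ⟨mk q, rfl⟩
  have hker : RingHom.ker (g : (Q ⧸ K ^ 2) →+* Bh) = K.map (Ideal.Quotient.mk (K ^ 2)) := by
    refine le_antisymm (fun y hy => ?_) (Ideal.map_le_iff_le_comap.2 fun q hq => hq)
    obtain ⟨q, rfl⟩ := Ideal.Quotient.mk_surjective y
    exact Ideal.mem_map_of_mem _ hy
  set Kb := K.map (Ideal.Quotient.mk (K ^ 2))
  have hKb : Kb ^ 2 = ⊥ := by rw [← Ideal.map_pow, Ideal.map_quotient_self]
  let s : Bh →ₐ[A] (Q ⧸ K ^ 2) :=
    Algebra.FormallySmooth.liftOfSurjective (AlgHom.id A Bh) g hg ⟨2, by rw [hker]; exact hKb⟩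
  let ψ : MvPolynomial σ A →ₐ[A] (Q ⧸ K ^ 2) := s.comp ((IsScalarTower.toAlgHom A B Bh).comp φ)
  let ιb : MvPolynomial σ A →ₐ[A] (Q ⧸ K ^ 2) := mk.comp ι
  have hδ : ∀ p, ψ p - ιb p ∈ Kb := fun p => by
    rw [← hker, RingHom.mem_ker, RingHom.coe_coe, map_sub, sub_eq_zero]
    exact (Algebra.FormallySmooth.liftOfSurjective_apply _ _ _ _ _).trans (hφc p).symm
  set Xb := Xs.map ιb.toRingHom
  have hsq : ∀ p ∈ Xs ^ 2, ψ p - ιb p ∈ Kb * Xb := by
    intro p hp
    rw [pow_two] at hp
    induction hp using Submodule.mul_induction_on' with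
    | mem_mul_mem a ha b hb =>
      have hz : (ψ a - ιb a) * (ψ b - ιb b) = 0 := by
        have := Ideal.mul_mem_mul (hδ a) (hδ b)
        rwa [show Kb * Kb = ⊥ from (pow_two Kb).symm.trans hKb, Ideal.mem_bot] at this
      rw [show ψ (a * b) - ιb (a * b) =
          (ψ a - ιb a) * ιb b + (ψ b - ιb b) * ιb a + (ψ a - ιb a) * (ψ b - ιb b) by
        rw [map_mul, map_mul]; ring, hz, add_zero]
      exact add_mem (Ideal.mul_mem_mul (hδ a) (Ideal.mem_map_of_mem ιb.toRingHom hb))
        (Ideal.mul_mem_mul (hδ b) (Ideal.mem_map_of_mem ιb.toRingHom ha))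
    | add a _ b _ ha hb =>
      convert add_mem ha hb using 1
      simp [map_add]; ring
  have hle : J ≤ Xs * J := by
    intro f hf
    have h1 := hsq f (hJ2 f hf)
    rw [show ψ f = 0 by simp [ψ, show φ f = 0 from hf], zero_sub, neg_mem_iff] at h1
    have hprod : Kb * Xb = ((J * Xs).map ι.toRingHom).map (Ideal.Quotient.mk (K ^ 2)) := by
      rw [Ideal.map_mul, Ideal.map_mul, ← hKJ, Ideal.map_map]
      rfl
    rw [hprod] at h1
    obtain ⟨y, hy, hy'⟩ := (Ideal.mem_map_iff_of_surjective _ Ideal.Quotient.mk_surjective).1 h1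
    have hyf : y - ι f ∈ K ^ 2 := Ideal.Quotient.eq.1 hy'
    have hK2 : K ^ 2 ≤ (J * Xs).map ι.toRingHom := by
      rw [pow_two, hKJ, Ideal.map_mul]
      exact Ideal.mul_mono le_rfl (Ideal.map_mono hJX)
    have hιf : ι f ∈ (J * Xs).map ι.toRingHom := by
      have := sub_mem hy (hK2 hyf)
      rwa [sub_sub_cancel] at this
    obtain ⟨_, ⟨k, rfl⟩, hk⟩ := (IsLocalization.algebraMap_mem_map_algebraMap_iff (Submonoid.powers c) Q _ _).1 hιf
    have hck : (c ^ k - 1) ∈ Xs := by
      obtain ⟨d, hd⟩ := sub_dvd_pow_sub_pow c 1 k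
      rw [one_pow] at hd
      rw [hd]
      exact Ideal.mul_mem_right _ _ hc1
    rw [mul_comm Xs]
    have : f = c ^ k * f - f * (c ^ k - 1) := by ring
    rw [this]
    exact sub_mem hk (Ideal.mul_mem_mul hf hck)
  obtain ⟨r, hr, hr'⟩ := Submodule.exists_sub_one_mem_and_smul_eq_zero_of_fg_of_le_smul Xs J
    (IsNoetherian.noetherian J) hle
  refine (injective_iff_map_eq_zero φ).2 fun f hf => eq_zero_of_mul_eq_zero ?_ (hr' f hf)
  have h1 : constantCoeff (r - 1) = 0 := by
    have hX0 : Xs ≤ RingHom.ker (constantCoeff (R := A) (σ := σ)) :=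
      Ideal.span_le.2 (by rintro _ ⟨i, rfl⟩; exact constantCoeff_X A i)
    exact hX0 hr
  rwa [map_sub, map_one, sub_eq_zero] at h1

theorem exists_away_formallySmooth [IsNoetherianRing A] [Algebra.FiniteType A B] (I : Ideal B)
    (hsm : ∀ (P : Ideal B) [P.IsPrime], I ≤ P → Algebra.IsSmoothAt A P) :
    ∃ h : B, h - 1 ∈ I ∧ Algebra.FormallySmooth A (Localization.Away h) := by
  classical
  haveI : Algebra.FinitePresentation A B := Algebra.FinitePresentation.of_finiteType.1 ‹_›
  obtain ⟨b, hb⟩ := (PrimeSpectrum.isClosed_iff_zeroLocus_ideal _).1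
    (Algebra.isOpen_smoothLocus (R := A) (A := B)).isClosed_compl
  have htop : b ⊔ I = ⊤ := by
    by_contra hne
    obtain ⟨M, hM, hle⟩ := Ideal.exists_le_maximal _ hne
    haveI := hM.isPrime
    have h1 : (⟨M, hM.isPrime⟩ : PrimeSpectrum B) ∈ (Algebra.smoothLocus A B)ᶜ := by
      rw [hb]; exact le_sup_left.trans hle
    exact h1 (hsm M (le_sup_right.trans hle))
  obtain ⟨h, hh, i, hi, hhi⟩ := Submodule.mem_sup.1 ((Ideal.eq_top_iff_one _).1 htop)
  refine ⟨h, by rw [← hhi, sub_add_cancel_left]; exact neg_mem hi, ?_⟩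
  rw [← Algebra.basicOpen_subset_smoothLocus_iff]
  intro P hP
  by_contra hns
  have : P ∈ PrimeSpectrum.zeroLocus (b : Set B) := hb ▸ hns
  exact hP (this hh)

end Groth.Agent.BBAffine
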