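import Groth.Agent.Lib.BBAffine.Inj
import Mathlib.RingTheory.GradedAlgebra.Homogeneous.Ideal
import Mathlib.LinearAlgebra.FreeModule.Finite.Basic
import Mathlib.LinearAlgebra.Dimension.Free

/-!
# Graded algebras smooth along the zero section with free conormal module are polynomial algebras
-/

namespace Groth.Agent.BBAffine

universe u

variable {A B : Type u} [CommRing A] [CommRing B] [Algebra A B] (𝒜 : ℕ → Submodule A B) [GradedAlgebra 𝒜]

local notation "π" => GradedAlgebra.proj 𝒜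
local notation "I'" => HomogeneousIdeal.toIdeal (HomogeneousIdeal.irrelevant 𝒜)

theorem mem_I {x : B} : x ∈ I' ↔ π 0 x = 0 := Iff.rfl

theorem proj_mem (d : ℕ) (x : B) : π d x ∈ 𝒜 d := by
  rw [GradedAlgebra.proj_apply]; exact SetLike.coe_mem _

theorem proj_same {d : ℕ} {x : B} (hx : x ∈ 𝒜 d) : π d x = x := by
  rw [GradedAlgebra.proj_apply]; exact DirectSum.decompose_of_mem_same 𝒜 hx

theorem proj_ne {d e : ℕ} {x : B} (hx : x ∈ 𝒜 d) (h : d ≠ e) : π e x = 0 := by
  rw [GradedAlgebra.proj_apply]; exact DirectSum.decompose_of_mem_ne 𝒜 hx h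

theorem eq_sum_proj (x : B) : ∃ s : Finset ℕ, x = ∑ d ∈ s, π d x := by
  classical
  exact ⟨_, (DirectSum.sum_support_decompose 𝒜 x).symm⟩

theorem mem_I_of_mem {d : ℕ} (hd : d ≠ 0) {x : B} (hx : x ∈ 𝒜 d) : x ∈ I' :=
  (mem_I 𝒜).2 (proj_ne 𝒜 hx hd)

/-- Components of products from the irrelevant ideal. -/
theorem proj_sq (S : Subalgebra A B) {y : B} (hy : y ∈ I' ^ 2) (d : ℕ) :
    π d y ∈ I' ^ 2 ∧ ((∀ e < d, ∀ x ∈ 𝒜 e, x ∈ S) → π d y ∈ S) := by
  classical
  rw [pow_two] at hy ⊢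
  induction hy using Submodule.mul_induction_on' with
  | mem_mul_mem a ha b hb =>
    obtain ⟨s, hs⟩ := eq_sum_proj 𝒜 a
    obtain ⟨t, ht⟩ := eq_sum_proj 𝒜 b
    have key : ∀ i ∈ s, ∀ j ∈ t, π d (π i a * π j b) ∈ I' * I' ∧
        ((∀ e < d, ∀ x ∈ 𝒜 e, x ∈ S) → π d (π i a * π j b) ∈ S) := by
      intro i _ j _
      rcases eq_or_ne i 0 with rfl | hi
      · simp [(mem_I 𝒜).1 ha]
      rcases eq_or_ne j 0 with rfl | hj
      · simp [(mem_I 𝒜).1 hb]
      have hm : π i a * π j b ∈ 𝒜 (i + j) := SetLike.mul_mem_graded (proj_mem 𝒜 i a) (proj_mem 𝒜 j b)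
      rcases eq_or_ne (i + j) d with h | h
      · subst h
        rw [proj_same 𝒜 hm]
        exact ⟨Ideal.mul_mem_mul (mem_I_of_mem 𝒜 hi (proj_mem 𝒜 i a)) (mem_I_of_mem 𝒜 hj (proj_mem 𝒜 j b)),
          fun hS => mul_mem (hS i (by omega) _ (proj_mem 𝒜 i a)) (hS j (by omega) _ (proj_mem 𝒜 j b))⟩
      · rw [proj_ne 𝒜 hm h]
        exact ⟨zero_mem _, fun _ => zero_mem _⟩
    have e : π d (a * b) = ∑ i ∈ s, ∑ j ∈ t, π d (π i a * π j b) := by
      conv_lhs => rw [hs, ht, Finset.sum_mul_sum, map_sum]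
      exact Finset.sum_congr rfl fun i _ => map_sum _ _ _
    rw [e]
    exact ⟨Ideal.sum_mem _ fun i hi => Ideal.sum_mem _ fun j hj => (key i hi j hj).1,
      fun hS => Subalgebra.sum_mem _ fun i hi => Subalgebra.sum_mem _ fun j hj => (key i hi j hj).2 hS⟩
  | add a _ b _ ha hb =>
    rw [map_add]
    exact ⟨add_mem ha.1 hb.1, fun hS => add_mem (ha.2 hS) (hb.2 hS)⟩

theorem main [IsNoetherianRing A] [Algebra.FiniteType A B]
    (h0 : ∀ b : B, b ∈ 𝒜 0 ↔ b ∈ Set.range (algebraMap A B)) (hinj : Function.Injective (algebraMap A B))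
    (hsm : ∀ (P : Ideal B) [P.IsPrime], I' ≤ P → Algebra.IsSmoothAt A P)
    [Module.Free A (I').Cotangent] [Module.Finite A (I').Cotangent] :
    Nonempty (B ≃ₐ[A] MvPolynomial (Fin (Module.finrank A (I').Cotangent)) A) := by
  classical
  rcases subsingleton_or_nontrivial A with hA | hA
  · have : Subsingleton B := subsingleton_of_zero_eq_one (by
      have := congrArg (algebraMap A B) (Subsingleton.elim (0 : A) 1)
      rwa [map_zero, map_one] at this)
    haveI : Subsingleton (MvPolynomial (Fin (Module.finrank A (I').Cotangent)) A) :=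
      subsingleton_of_zero_eq_one (by rw [← map_zero MvPolynomial.C, Subsingleton.elim (0 : A) 1, map_one])
    exact ⟨(AlgEquiv.ofBijective (MvPolynomial.aeval fun _ : Fin (Module.finrank A (I').Cotangent) => (0 : B))
      ⟨fun _ _ _ => Subsingleton.elim _ _, fun y => ⟨0, Subsingleton.elim _ _⟩⟩).symm⟩
  set bN := Module.finBasis A (I').Cotangent
  let mk : I' →ₗ[A] (I').Cotangent := (I').toCotangent.restrictScalars A
  have hmk : ∀ x : I', mk x = 0 ↔ (x : B) ∈ I' ^ 2 := fun x => (I').toCotangent_eq_zero x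
  choose a ha using fun i => Ideal.toCotangent_surjective I' (bN i)
  let l : (I').Cotangent →ₗ[A] I' := bN.constr A a
  have hl : ∀ n, mk (l n) = n := by
    intro n
    have : mk ∘ₗ l = LinearMap.id := bN.ext fun i => by
      rw [LinearMap.comp_apply, Module.Basis.constr_basis, LinearMap.id_apply]
      exact ha i
    exact LinearMap.congr_fun this n
  have hrI : ∀ x, x - π 0 x ∈ I' := fun x => by
    rw [mem_I, map_sub, proj_same 𝒜 (proj_mem 𝒜 0 x), sub_self]
  let r : B →ₗ[A] I' :=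
    { toFun := fun x => ⟨x - π 0 x, hrI x⟩
      map_add' := fun x y => Subtype.ext (show x + y - π 0 (x + y) = (x - π 0 x) + (y - π 0 y) by
        rw [map_add]; ring)
      map_smul' := fun c x => Subtype.ext (show c • x - π 0 (c • x) = c • (x - π 0 x) by
        rw [map_smul, smul_sub]) }
  let incl : I' →ₗ[A] B := ((I').subtype).restrictScalars A
  let G : B →ₗ[A] B := (DirectSum.toModule A ℕ B fun d =>
    (GradedAlgebra.proj 𝒜 d) ∘ₗ incl ∘ₗ l ∘ₗ mk ∘ₗ r ∘ₗ (𝒜 d).subtype).comp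
      (DirectSum.decomposeLinearEquiv 𝒜).toLinearMap
  have hGhom : ∀ {d : ℕ} {x : B}, x ∈ 𝒜 d → G x = π d (l (mk (r x)) : B) := by
    intro d x hx
    simp only [G, LinearMap.comp_apply, LinearEquiv.coe_coe, DirectSum.decomposeLinearEquiv_apply]
    rw [DirectSum.decompose_of_mem 𝒜 hx, ← DirectSum.lof_eq_of A, DirectSum.toModule_lof]
    rfl
  have hGsq : ∀ y ∈ I' ^ 2, G y = 0 := by
    intro y hy
    obtain ⟨s, hs⟩ := eq_sum_proj 𝒜 y
    rw [hs, map_sum]
    refine Finset.sum_eq_zero fun d _ => ?_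
    rw [hGhom (proj_mem 𝒜 d y), (hmk _).2, map_zero]
    · exact map_zero _
    · have h1 := (proj_sq 𝒜 ⊥ hy d).1
      have h2 : π 0 (π d y) = 0 := (mem_I 𝒜).1 (Ideal.pow_le_self two_ne_zero h1)
      show π d y - π 0 (π d y) ∈ I' ^ 2
      rwa [h2, sub_zero]
  have hGhom' : ∀ {d : ℕ} {x : B}, d ≠ 0 → x ∈ 𝒜 d → x - G x ∈ I' ^ 2 := by
    intro d x hd hx
    have hrx : (r x : B) = x := by
      show x - π 0 x = x
      rw [proj_ne 𝒜 hx hd, sub_zero]
    have h1 : x - (l (mk (r x)) : B) ∈ I' ^ 2 := by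
      have := (hmk (r x - l (mk (r x)))).1 (by rw [map_sub, hl, sub_self])
      rwa [Submodule.coe_sub, hrx] at this
    have h2 := (proj_sq 𝒜 ⊥ h1 d).1
    rwa [map_sub, proj_same 𝒜 hx, ← hGhom hx] at h2
  have hGI : ∀ x ∈ I', x - G x ∈ I' ^ 2 := by
    intro x hx
    obtain ⟨s, hs⟩ := eq_sum_proj 𝒜 x
    rw [hs, map_sum, ← Finset.sum_sub_distrib]
    refine Ideal.sum_mem _ fun d _ => ?_
    rcases eq_or_ne d 0 with rfl | hd
    · rw [(mem_I 𝒜).1 hx, map_zero, sub_zero]; exact zero_mem _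
    · exact hGhom' hd (proj_mem 𝒜 d x)
  let φ : MvPolynomial (Fin (Module.finrank A (I').Cotangent)) A →ₐ[A] B :=
    MvPolynomial.aeval fun i => G (a i : B)
  have hX : ∀ i, φ (MvPolynomial.X i) ∈ I' := fun i => by
    simp only [φ, MvPolynomial.aeval_X]
    have := sub_mem (a i).2 (Ideal.pow_le_self two_ne_zero (hGI _ (a i).2) :)
    rwa [sub_sub_cancel] at this
  have hGspan : ∀ x ∈ I', G x ∈ φ.range := by
    intro x hx
    have h1 : x - ∑ i, bN.repr (mk ⟨x, hx⟩) i • (a i : B) ∈ I' ^ 2 := by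
      have h2 := (hmk (⟨x, hx⟩ - ∑ i, bN.repr (mk ⟨x, hx⟩) i • a i)).1 (by
        rw [map_sub, map_sum, sub_eq_zero]
        simp only [map_smul, mk, LinearMap.restrictScalars_apply, ha]
        exact (bN.sum_repr _).symm)
      have hc : (((⟨x, hx⟩ : I') - ∑ i, bN.repr (mk ⟨x, hx⟩) i • a i : I') : B) =
          x - ∑ i, bN.repr (mk ⟨x, hx⟩) i • (a i : B) := by
        rw [Submodule.coe_sub, AddSubmonoidClass.coe_finsetSum]
        rfl
      rwa [hc] at h2
    have h3 := hGsq _ h1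
    rw [map_sub, map_sum, sub_eq_zero] at h3
    rw [h3]
    exact Subalgebra.sum_mem _ fun i _ => by
      rw [map_smul]
      exact Subalgebra.smul_mem φ.range ((φ.mem_range).2 ⟨MvPolynomial.X i, MvPolynomial.aeval_X _ i⟩) _
  have hsurj : Function.Surjective φ := by
    have hdeg : ∀ d, ∀ x ∈ 𝒜 d, x ∈ φ.range := by
      intro d
      induction d using Nat.strong_induction_on with
      | _ d ih =>
        intro x hx
        rcases eq_or_ne d 0 with rfl | hd
        · obtain ⟨c, rfl⟩ := (h0 x).1 hx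
          exact Subalgebra.algebraMap_mem _ c
        · have h1 : x - G x ∈ φ.range := by
            have h2 := (proj_sq 𝒜 φ.range (hGhom' hd hx) d).2 ih
            rwa [map_sub, proj_same 𝒜 hx, proj_same 𝒜 (by rw [hGhom hx]; exact proj_mem 𝒜 d _)] at h2
          have h3 := add_mem h1 (hGspan x (mem_I_of_mem 𝒜 hd hx))
          rwa [sub_add_cancel] at h3
    intro x
    obtain ⟨s, hs⟩ := eq_sum_proj 𝒜 x
    have hx : x ∈ φ.range := by
      rw [hs]; exact Subalgebra.sum_mem _ fun d _ => hdeg d _ (proj_mem 𝒜 d x)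
    exact hx
  obtain ⟨h, hh, hfs⟩ := exists_away_formallySmooth (A := A) I' hsm
  have hinjφ : Function.Injective φ := by
    refine injective_of_smooth φ hsurj I' hX (fun c hc => ?_) (fun c hc => ?_) h hh
    · rw [mem_I, proj_same 𝒜 ((h0 _).2 ⟨c, rfl⟩)] at hc
      exact hinj (hc.trans (map_zero _).symm)
    · have h1 : ∑ i, c i • (a i : B) ∈ I' ^ 2 := by
        have hdiff : ∑ i, c i • (a i : B) - ∑ i, algebraMap A B (c i) * φ (MvPolynomial.X i) ∈ I' ^ 2 := by
          rw [← Finset.sum_sub_distrib]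
          refine Ideal.sum_mem _ fun i _ => ?_
          simp only [φ, MvPolynomial.aeval_X]
          rw [Algebra.smul_def, ← mul_sub]
          exact Ideal.mul_mem_left _ _ (hGI _ (a i).2)
        simpa using add_mem hdiff hc
      have h2 : mk (∑ i, c i • a i) = 0 := (hmk _).2 (by
        rw [AddSubmonoidClass.coe_finsetSum]; exact h1)
      rw [map_sum] at h2
      simp only [map_smul, mk, LinearMap.restrictScalars_apply, ha] at h2
      exact funext fun i => Fintype.linearIndependent_iff.1 bN.linearIndependent c h2 i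
  exact ⟨(AlgEquiv.ofBijective φ ⟨hinjφ, hsurj⟩).symm⟩

end Groth.Agent.BBAffine
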